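import Groth.Agent.BertiniLib.Engine
import Mathlib.RingTheory.Smooth.Flat
import Mathlib.RingTheory.Smooth.Locus

/-!
# The relative dimension of a standard smooth algebra is its dimension
-/

set_option autoImplicit false
set_option backward.isDefEq.respectTransparency.types false

universe u

open KaehlerDifferential TensorProduct Module

namespace Groth.Agent.BertiniLib

variable {k : Type u} [Field k]

/-- Every component of a standard smooth algebra of relative dimension `n` has dimension `n`. -/
theorem ringKrullDim_quotient_minimalPrime {C : Type u} [CommRing C] [Algebra k C] (n : ℕ)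
    [Algebra.IsStandardSmoothOfRelativeDimension n k C] (P : Ideal C) (hP : P ∈ minimalPrimes C) :
    ringKrullDim (C ⧸ P) = (n : WithBot ℕ∞) := by
  have : Algebra.IsStandardSmooth k C :=
    Algebra.IsStandardSmoothOfRelativeDimension.isStandardSmooth n
  have : P.IsPrime := hP.1.1
  refine le_antisymm ((ringKrullDim_le_of_surjective _ Ideal.Quotient.mk_surjective).trans
    (ringKrullDim_le_of_isStandardSmooth (k := k) n)) ?_
  obtain ⟨g, hg⟩ :=
    Algebra.IsStandardSmoothOfRelativeDimension.exists_etale_mvPolynomial n k C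
  letI := g.toRingHom.toAlgebra
  have : Algebra.Etale (MvPolynomial (Fin n) k) C := RingHom.etale_algebraMap.mp hg
  have : Module.Flat (MvPolynomial (Fin n) k) C := inferInstance
  have hinj : Function.Injective ((Ideal.Quotient.mkₐ k P).comp g) := by
    refine (injective_iff_map_eq_zero _).2 fun x hx => ?_
    by_contra hne
    have hxP : algebraMap (MvPolynomial (Fin n) k) C x ∈ P := Ideal.Quotient.eq_zero_iff_mem.1 hx
    have hr : IsSMulRegular C x := IsSMulRegular.of_flat (isRegular_of_ne_zero hne).left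
    have hnz : algebraMap (MvPolynomial (Fin n) k) C x ∈ nonZeroDivisors C := by
      rw [mem_nonZeroDivisors_iff_right]
      intro z hz
      apply hr
      simp only [Algebra.smul_def]
      rw [mul_zero, mul_comm]
      exact hz
    exact Set.disjoint_left.1 (Ideal.disjoint_nonZeroDivisors_of_mem_minimalPrimes hP) hxP hnz
  have hle := trdeg_le_of_injective _ hinj
  rw [MvPolynomial.trdeg_of_isDomain, Cardinal.mk_fin, Cardinal.lift_natCast] at hle
  obtain ⟨s, -, -, -, h1, h2⟩ := DimLib.exists_normalization (k := k) (A := C ⧸ P)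
  rw [h2] at hle
  rw [h1]
  exact_mod_cast (by exact_mod_cast hle : n ≤ s)

/-- A nonzero standard smooth localization of an equidimensional algebra has the expected relative
dimension. -/
theorem relativeDimension_eq {A C : Type u} [CommRing A] [CommRing C] [Algebra k A] [Algebra k C]
    [Algebra.FiniteType k A] [Algebra A C] [IsScalarTower k A C] (f : A) [IsLocalization.Away f C]
    [Nontrivial C] {r n : ℕ} (hdim : ∀ P ∈ minimalPrimes A, ringKrullDim (A ⧸ P) = r)
    [Algebra.IsStandardSmoothOfRelativeDimension n k C] : n = r := by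
  have : Algebra.IsStandardSmooth k C :=
    Algebra.IsStandardSmoothOfRelativeDimension.isStandardSmooth n
  obtain ⟨M, hM⟩ := Ideal.exists_maximal C
  obtain ⟨P, hP, -⟩ := Ideal.exists_minimalPrimes_le (bot_le (a := M))
  have hPp : P.IsPrime := hP.1.1
  set P₀ := P.comap (algebraMap A C) with hP₀
  have hP₀m : P₀ ∈ minimalPrimes A := by
    refine ⟨⟨Ideal.IsPrime.comap _, bot_le⟩, fun Q hQ hle => ?_⟩
    have hQp : Q.IsPrime := hQ.1
    have hd : Disjoint (Submonoid.powers f : Set A) (Q : Set A) :=
      Set.disjoint_of_subset_right (show (Q : Set A) ⊆ P₀ from hle)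
        (((IsLocalization.isPrime_iff_isPrime_disjoint (Submonoid.powers f) C P).1 hPp).2)
    have h1 : Q.map (algebraMap A C) ≤ P := Ideal.map_le_iff_le_comap.2 hle
    have h2 : (Q.map (algebraMap A C)).IsPrime :=
      IsLocalization.isPrime_of_isPrime_disjoint _ C Q hQp hd
    have h3 := le_antisymm h1 (hP.2 ⟨h2, bot_le⟩ h1)
    exact le_of_eq (by rw [hP₀, ← h3]; exact IsLocalization.under_map_of_isPrime_disjoint _ C hQp hd)
  have hdA := hdim P₀ hP₀m
  have hC := ringKrullDim_quotient_minimalPrime (k := k) n P hP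
  let φ : (A ⧸ P₀) →ₐ[k] (C ⧸ P) :=
    Ideal.quotientMapₐ P (IsScalarTower.toAlgHom k A C) le_rfl
  letI := φ.toRingHom.toAlgebra
  have : IsScalarTower k (A ⧸ P₀) (C ⧸ P) := IsScalarTower.of_algebraMap_eq fun x => (φ.commutes x).symm
  have hinj : Function.Injective φ := Ideal.quotientMap_injective
  have : FaithfulSMul (A ⧸ P₀) (C ⧸ P) := (faithfulSMul_iff_algebraMap_injective _ _).2 hinj
  have : Algebra.IsAlgebraic (A ⧸ P₀) (C ⧸ P) := by
    refine ⟨fun z => ?_⟩
    obtain ⟨c, rfl⟩ := Ideal.Quotient.mk_surjective z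
    obtain ⟨⟨a, _, N, rfl⟩, ha⟩ := IsLocalization.surj (Submonoid.powers f) c
    refine ⟨Polynomial.C (Ideal.Quotient.mk P₀ (f ^ N)) * Polynomial.X -
      Polynomial.C (Ideal.Quotient.mk P₀ a), ?_, ?_⟩
    · intro h
      have := congrArg (fun p => Polynomial.coeff p 1) h
      simp only [Polynomial.coeff_sub, Polynomial.coeff_C_mul, Polynomial.coeff_X_one, mul_one,
        Polynomial.coeff_C_succ, sub_zero, Polynomial.coeff_zero,
        Ideal.Quotient.eq_zero_iff_mem] at this
      refine hPp.ne_top (Ideal.eq_top_of_isUnit_mem _ (this : f ^ N ∈ P₀) ?_)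
      rw [map_pow]
      exact IsLocalization.Away.algebraMap_pow_isUnit f N
    · rw [map_sub, map_mul, Polynomial.aeval_C, Polynomial.aeval_C, Polynomial.aeval_X, sub_eq_zero]
      show Ideal.Quotient.mk P (algebraMap A C (f ^ N)) * Ideal.Quotient.mk P c =
        Ideal.Quotient.mk P (algebraMap A C a)
      rw [← map_mul, mul_comm, ha]
  have htr : Algebra.trdeg k (A ⧸ P₀) = Algebra.trdeg k (C ⧸ P) := by
    rw [← trdeg_add_eq k (A ⧸ P₀) (A := C ⧸ P), trdeg_eq_zero (R := A ⧸ P₀) (A := C ⧸ P), add_zero]
  have e : ringKrullDim (A ⧸ P₀) = ringKrullDim (C ⧸ P) := by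
    rw [DimLib.ringKrullDim_eq_trdeg (k := k), DimLib.ringKrullDim_eq_trdeg (k := k), htr]
  rw [hdA, hC] at e
  exact_mod_cast e.symm

end Groth.Agent.BertiniLib
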