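import Groth.Agent.BertiniLib.RelDim
import Groth.Agent.AlgSpLib.SmoothField
import Mathlib.RingTheory.Kaehler.Basic

/-!
# Bertini for smooth affine algebras
-/

set_option autoImplicit false
set_option backward.isDefEq.respectTransparency.types false

universe u

open KaehlerDifferential TensorProduct Module

namespace Groth.Agent.BertiniLib

variable {k : Type u} [Field k] {A : Type u} [CommRing A] [Algebra k A] {m : ℕ}

theorem span_pairs_localization {C : Type u} [CommRing C] [Algebra k C] [Algebra A C]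
    [IsScalarTower k A C] (f : A) [IsLocalization.Away f C] (s : Fin m → A)
    (hjet : Submodule.span A (Set.range fun j => (s j, D k A (s j))) = ⊤) :
    Submodule.span C (Set.range fun j => (algebraMap A C (s j), D k C (algebraMap A C (s j)))) = ⊤ := by
  set S := Submodule.span C (Set.range fun j => (algebraMap A C (s j), D k C (algebraMap A C (s j))))
  let Φ : (A × Ω[A⁄k]) →ₗ[A] (C × Ω[C⁄k]) :=
    (Algebra.linearMap A C).prodMap (KaehlerDifferential.map k k A C)
  have hΦ : ∀ z, Φ z ∈ S := fun z => by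
    have : (⊤ : Submodule A (A × Ω[A⁄k])).map Φ ≤ S.restrictScalars A := by
      rw [← hjet, Submodule.map_span, Submodule.span_le]
      rintro _ ⟨_, ⟨j, rfl⟩, rfl⟩
      exact Submodule.subset_span ⟨j, by simp [Φ]⟩
    exact this ⟨z, trivial, rfl⟩
  have h10 : ((1 : C), (0 : Ω[C⁄k])) ∈ S := by simpa [Φ] using hΦ (1, 0)
  have hd : ∀ a : A, ((0 : C), D k C (algebraMap A C a)) ∈ S := fun a => by
    simpa [Φ] using hΦ (0, D k A a)
  have hd' : ∀ c : C, ((0 : C), D k C c) ∈ S := by
    intro c
    obtain ⟨⟨a, _, N, rfl⟩, ha⟩ := IsLocalization.surj (Submonoid.powers f) c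
    dsimp only at ha
    have hu : IsUnit (algebraMap A C (f ^ N)) := by
      rw [map_pow]; exact IsLocalization.Away.algebraMap_pow_isUnit f N
    have := congrArg (D k C) ha
    rw [Derivation.leibniz] at this
    have h2 : algebraMap A C (f ^ N) • ((0 : C), D k C c) ∈ S := by
      have h3 := S.sub_mem (hd a) (S.smul_mem c (hd (f ^ N)))
      rw [← this] at h3
      simpa using h3
    simpa [smul_smul] using S.smul_mem ((hu.unit⁻¹ : Cˣ) : C) h2
  refine eq_top_iff.2 ?_
  rintro ⟨a, w⟩ -
  have hw : ((0 : C), w) ∈ S := by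
    have : w ∈ Submodule.span C (Set.range (D k C)) := by
      rw [KaehlerDifferential.span_range_derivation]; trivial
    induction this using Submodule.span_induction with
    | mem y hy => obtain ⟨c, rfl⟩ := hy; exact hd' c
    | zero => exact S.zero_mem
    | add y z _ _ hy hz => simpa using S.add_mem hy hz
    | smul c y _ hy => simpa using S.smul_mem c hy
  simpa using S.add_mem (S.smul_mem a h10) hw

/-- Algebra generators and `1` generate first jets. -/
theorem span_pairs_of_adjoin (s : Fin m → A) (h1 : (1 : A) ∈ Set.range s)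
    (hgen : Algebra.adjoin k (Set.range s) = ⊤) :
    Submodule.span A (Set.range fun j => (s j, D k A (s j))) = ⊤ := by
  set S := Submodule.span A (Set.range fun j => (s j, D k A (s j)))
  obtain ⟨j₀, hj₀⟩ := h1
  have h10 : ((1 : A), (0 : Ω[A⁄k])) ∈ S := Submodule.subset_span ⟨j₀, by simp [hj₀]⟩
  have hd : ∀ a : A, ((0 : A), D k A a) ∈ S := fun a => by
    induction (hgen ▸ Algebra.mem_top : a ∈ Algebra.adjoin k (Set.range s)) using
      Algebra.adjoin_induction with
    | mem y hy =>
      obtain ⟨j, rfl⟩ := hy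
      have hj : (s j, D k A (s j)) ∈ S := Submodule.subset_span ⟨j, rfl⟩
      simpa using S.sub_mem hj (S.smul_mem (s j) h10)
    | algebraMap c => rw [Derivation.map_algebraMap]; exact S.zero_mem
    | add x y _ _ hx hy => simpa using S.add_mem hx hy
    | mul x y _ _ hx hy =>
      rw [Derivation.leibniz]
      simpa using S.add_mem (S.smul_mem x hy) (S.smul_mem y hx)
  refine eq_top_iff.2 ?_
  rintro ⟨a, w⟩ -
  have hw : ((0 : A), w) ∈ S := by
    have : w ∈ Submodule.span A (Set.range (D k A)) := by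
      rw [KaehlerDifferential.span_range_derivation]; trivial
    induction this using Submodule.span_induction with
    | mem y hy => obtain ⟨c, rfl⟩ := hy; exact hd c
    | zero => exact S.zero_mem
    | add y z _ _ hy hz => simpa using S.add_mem hy hz
    | smul c y _ hy => simpa using S.smul_mem c hy
  simpa using S.add_mem (S.smul_mem a h10) hw

/-- A submodule which fills the fibre at every maximal ideal is everything. -/
theorem eq_top_of_forall_maximal {M : Type u} [AddCommGroup M] [Module A M] [Module.Finite A M]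
    (S : Submodule A M)
    (h : ∀ P : Ideal A, P.IsMaximal → ∀ z, z ∈ S ⊔ P • (⊤ : Submodule A M)) : S = ⊤ := by
  have key : ∀ P : Ideal A, P.IsMaximal → ∃ r : A, r ∉ P ∧ ∀ z, r • z ∈ S := by
    intro P hP
    have hle : (⊤ : Submodule A (M ⧸ S)) ≤ P • ⊤ := by
      intro z _
      obtain ⟨z, rfl⟩ := S.mkQ_surjective z
      obtain ⟨a, ha, b, hb, rfl⟩ := Submodule.mem_sup.1 (h P hP z)
      rw [map_add, Submodule.mkQ_apply, (Submodule.Quotient.mk_eq_zero S).2 ha, zero_add]
      have : S.mkQ b ∈ (P • (⊤ : Submodule A M)).map S.mkQ := ⟨b, hb, rfl⟩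
      rw [Submodule.map_smul'', Submodule.map_top, Submodule.range_mkQ] at this
      exact this
    obtain ⟨r, hr, hr0⟩ := Submodule.exists_sub_one_mem_and_smul_eq_zero_of_fg_of_le_smul
      P ⊤ Module.Finite.fg_top hle
    refine ⟨r, fun hrP => hP.ne_top ((Ideal.eq_top_iff_one P).2 ?_), fun z => ?_⟩
    · simpa using P.sub_mem hrP hr
    · exact (Submodule.Quotient.mk_eq_zero S).1 (hr0 (S.mkQ z) trivial)
  let J : Ideal A :=
    { carrier := {r | ∀ z, r • z ∈ S}
      add_mem' := fun ha hb z => by rw [add_smul]; exact S.add_mem (ha z) (hb z)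
      zero_mem' := fun z => by rw [zero_smul]; exact S.zero_mem
      smul_mem' := fun c a ha z => by rw [smul_eq_mul, mul_smul]; exact S.smul_mem c (ha z) }
  have hJ : J = ⊤ := by
    by_contra hne
    obtain ⟨P, hP, hJP⟩ := Ideal.exists_le_maximal J hne
    obtain ⟨r, hr, hr'⟩ := key P hP
    exact hr (hJP hr')
  refine eq_top_iff.2 fun z _ => ?_
  simpa using ((Ideal.eq_top_iff_one J).1 hJ) z

theorem smooth_of_smoothAt_maximal [Algebra.FinitePresentation k A]
    (h : ∀ q : Ideal A, q.IsMaximal → ∀ [q.IsPrime], Algebra.IsSmoothAt k q) : Algebra.Smooth k A := by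
  refine ⟨Algebra.smoothLocus_eq_univ_iff.1 (Set.eq_univ_iff_forall.2 fun p => ?_), inferInstance⟩
  obtain ⟨q, hq, hpq⟩ := Ideal.exists_le_maximal p.asIdeal p.2.ne_top
  exact ((PrimeSpectrum.le_iff_specializes p ⟨q, hq.isPrime⟩).1 hpq).mem_open
    Algebra.isOpen_smoothLocus (h q hq)

/-- **Bertini**: if the `s_j` generate first jets on a smooth affine variety, the general member of
`f + ∑ c_j s_j` cuts out a smooth subscheme. -/
theorem exists_poly_smooth_quotient [Algebra.Smooth k A] (s : Fin m → A) (f : A)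
    (hjet : Submodule.span A (Set.range fun j => (s j, D k A (s j))) = ⊤) :
    ∃ g : MvPolynomial (Fin m) k, g ≠ 0 ∧ ∀ c : Fin m → k, MvPolynomial.eval c g ≠ 0 →
      Algebra.Smooth k (A ⧸ Ideal.span {f + ∑ j, algebraMap k A (c j) * s j}) := by
  classical
  have : IsNoetherianRing A := Algebra.FiniteType.isNoetherianRing k A
  let Dset : Set A := {f | Algebra.IsStandardSmooth k (Localization.Away f)}
  obtain ⟨T, hT, hspan⟩ :=
    Submodule.fg_span_iff_fg_span_finset_subset Dset |>.1 (IsNoetherian.noetherian (Ideal.span Dset))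
  have hrd : ∀ f₀ ∈ T, ∃ n, Algebra.IsStandardSmoothOfRelativeDimension n k (Localization.Away f₀) :=
    fun f₀ hf₀ => by
      obtain ⟨ι', σ', _, hfin', ⟨P⟩⟩ := (hT hf₀ : Algebra.IsStandardSmooth k _).out
      exact ⟨P.dimension, ι', σ', _, hfin', P, rfl⟩
  have key : ∀ f₀ ∈ T, ∃ g : MvPolynomial (Fin m) k, g ≠ 0 ∧ ∀ c : Fin m → k,
      MvPolynomial.eval c g ≠ 0 →
        ∀ (q : Ideal (A ⧸ Ideal.span {f + ∑ j, algebraMap k A (c j) * s j})) (_ : q.IsPrime),
          f₀ ∉ q.comap (Ideal.Quotient.mk _) → Algebra.IsSmoothAt k q := by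
    intro f₀ hf₀
    obtain ⟨n, hn⟩ := hrd f₀ hf₀
    let C := Localization.Away f₀
    cases subsingleton_or_nontrivial C with
    | inl h =>
      refine ⟨1, one_ne_zero, fun c _ q hq hf₀q => ?_⟩
      have h0 : algebraMap A C 1 = algebraMap A _ 0 := Subsingleton.elim _ _
      obtain ⟨⟨_, N, rfl⟩, hN⟩ := (IsLocalization.eq_iff_exists (Submonoid.powers f₀) _).1 h0
      simp only [mul_one, mul_zero] at hN
      exact absurd ((Ideal.IsPrime.comap _ : (q.comap (Ideal.Quotient.mk _)).IsPrime).mem_of_pow_mem N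
        (hN ▸ Ideal.zero_mem _)) hf₀q
    | inr h =>
    have : Algebra.IsStandardSmooth k C :=
      Algebra.IsStandardSmoothOfRelativeDimension.isStandardSmooth n
    have hfr : Module.finrank C Ω[C⁄k] = n := Module.finrank_eq_of_rank_eq
      (Algebra.IsStandardSmoothOfRelativeDimension.rank_kaehlerDifferential n)
    let b : Module.Basis (Fin n) C Ω[C⁄k] := Module.finBasisOfFinrankEq C Ω[C⁄k] hfr
    obtain ⟨g, hg0, hg⟩ := exists_poly_singular (k := k) b (fun j => algebraMap A C (s j))
      (algebraMap A C f) (span_pairs_localization f₀ s hjet)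
    refine ⟨g, hg0, fun c hc => ?_⟩
    set l := f + ∑ j, algebraMap k A (c j) * s j with hl
    intro q hq hf₀q
    have : Algebra.FinitePresentation k (A ⧸ Ideal.span {l}) :=
      Algebra.FinitePresentation.quotient (Submodule.fg_span_singleton _)
    set Q := q.comap (Ideal.Quotient.mk (Ideal.span {l}))
    have hQp : Q.IsPrime := Ideal.IsPrime.comap _
    have hd : Disjoint (Submonoid.powers f₀ : Set A) (Q : Set A) := by
      rw [Set.disjoint_left]
      rintro _ ⟨N, rfl⟩ h
      exact hf₀q (hQp.mem_of_pow_mem N h)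
    have hlc : algebraMap A C l =
        algebraMap A C f + ∑ j, algebraMap k C (c j) * algebraMap A C (s j) := by
      simp [hl, ← IsScalarTower.algebraMap_apply]
    have hlQ : algebraMap A C l ∈ Q.map (algebraMap A C) :=
      Ideal.mem_map_of_mem _ (by
        show Ideal.Quotient.mk _ l ∈ q
        rw [Ideal.Quotient.eq_zero_iff_mem.2 (Ideal.mem_span_singleton_self l)]
        exact q.zero_mem)
    obtain ⟨i, hi⟩ : ∃ i, b.repr (D k C (algebraMap A C l)) i ∉ Q.map (algebraMap A C) := by
      by_contra h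
      push Not at h
      refine hc (hg c _ (IsLocalization.isPrime_of_isPrime_disjoint _ C Q hQp hd) ?_ ?_)
      · exact hlc ▸ hlQ
      · exact fun i => hlc ▸ h i
    obtain ⟨f', hf', hss⟩ :=
      exists_standardSmooth_quotient (k := k) (r := n) (C := C) f₀ b l q hf₀q i hi
    have : Algebra.IsStandardSmooth k (Localization.Away f') :=
      Algebra.IsStandardSmoothOfRelativeDimension.isStandardSmooth (n - 1)
    have : Algebra.FormallySmooth k (Localization.Away f') := inferInstance
    exact Algebra.basicOpen_subset_smoothLocus_iff.2 this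
      (show (⟨q, hq⟩ : PrimeSpectrum _) ∈ PrimeSpectrum.basicOpen f' from hf')
  choose! g hg0 hg using key
  refine ⟨∏ f₀ ∈ T, g f₀, Finset.prod_ne_zero_iff.2 hg0, fun c hc => ?_⟩
  rw [map_prod, Finset.prod_ne_zero_iff] at hc
  have : Algebra.FinitePresentation k (A ⧸ Ideal.span {f + ∑ j, algebraMap k A (c j) * s j}) :=
    Algebra.FinitePresentation.quotient (Submodule.fg_span_singleton _)
  refine smooth_of_smoothAt_maximal fun q hq hqp => ?_
  set Q := q.comap (Ideal.Quotient.mk (Ideal.span {f + ∑ j, algebraMap k A (c j) * s j}))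
  have hQp : Q.IsPrime := Ideal.IsPrime.comap _
  obtain ⟨f₁, hf₁, hss⟩ := Algebra.IsSmoothAt.exists_notMem_isStandardSmooth k Q
  obtain ⟨f₀, hf₀, hf₀Q⟩ : ∃ f₀ ∈ T, f₀ ∉ Q := by
    by_contra h
    push Not at h
    exact hf₁ (((le_of_eq hspan).trans (Ideal.span_le.2 h) : Ideal.span Dset ≤ Q)
      (Ideal.subset_span hss))
  exact hg f₀ hf₀ c (hc f₀ hf₀) q hqp hf₀Q

end Groth.Agent.BertiniLib
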