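import Groth.Agent.DimLib.Algebra
import Mathlib.RingTheory.AlgebraicIndependent.Transcendental
import Mathlib.RingTheory.RingHom.StandardSmooth
import Mathlib.RingTheory.Unramified.LocalStructure
import Mathlib.RingTheory.KrullDimension.Polynomial
import Mathlib.LinearAlgebra.FiniteDimensional.Lemmas
import Mathlib.RingTheory.Ideal.MinimalPrime.Noetherian

/-!
# The incidence bound behind Bertini's theorem

Over a finite type algebra `C` of dimension `≤ r`, a family of affine linear conditions of rank
`t > r` on the parameter space is met only over a proper closed subset of the parameters.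
-/

set_option autoImplicit false
set_option backward.isDefEq.respectTransparency.types false

universe u

open MvPolynomial

namespace Groth.Agent.BertiniLib

variable {k : Type u} [Field k] {C : Type u} [CommRing C] [Algebra k C]

/-- A standard smooth algebra of relative dimension `n` has dimension at most `n`. -/
theorem ringKrullDim_le_of_isStandardSmooth (n : ℕ)
    [Algebra.IsStandardSmoothOfRelativeDimension n k C] : ringKrullDim C ≤ n := by
  obtain ⟨g, hg⟩ :=
    Algebra.IsStandardSmoothOfRelativeDimension.exists_etale_mvPolynomial n k C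
  letI := g.toRingHom.toAlgebra
  have : Algebra.Etale (MvPolynomial (Fin n) k) C := RingHom.etale_algebraMap.mp hg
  have h : StrictMono (PrimeSpectrum.comap (algebraMap (MvPolynomial (Fin n) k) C)) := by
    intro p q hpq
    refine lt_of_le_of_ne (Ideal.comap_mono hpq.le) fun he => hpq.ne ?_
    exact PrimeSpectrum.ext (Algebra.QuasiFinite.eq_of_le_of_under_eq
      (R := MvPolynomial (Fin n) k) p.asIdeal q.asIdeal hpq.le (congrArg PrimeSpectrum.asIdeal he))
  refine (Order.krullDim_le_of_strictMono _ h).trans ?_
  rw [← ringKrullDim, MvPolynomial.ringKrullDim_of_isNoetherianRing, ringKrullDim_eq_zero_of_field]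
  simp

variable {m t : ℕ}

/-- The parametrization `y ↦ v + y N` of an affine family of solutions. -/
noncomputable def param (L : Type u) [CommRing L] [Algebra k L] {ι : Type} [Fintype ι]
    (v : Fin m → L) (N : Matrix ι (Fin m) L) : MvPolynomial (Fin m) k →ₐ[k] MvPolynomial ι L :=
  aeval fun j => MvPolynomial.C (v j) + ∑ l, MvPolynomial.C (N l j) * MvPolynomial.X l

theorem eval_param {L F : Type u} [CommRing L] [Algebra k L] [CommRing F] [Algebra k F] {ι : Type}
    [Fintype ι] (v : Fin m → L) (N : Matrix ι (Fin m) L) (φ : L →ₐ[k] F) (y : ι → F)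
    (g : MvPolynomial (Fin m) k) :
    MvPolynomial.eval₂ (φ : L →+* F) y (param L v N g) =
      aeval (fun j => φ (v j) + ∑ l, φ (N l j) * y l) g := by
  induction g using MvPolynomial.induction_on with
  | C a =>
    simp [param, IsScalarTower.algebraMap_apply k L (MvPolynomial ι L)]
  | add p q hp hq => simp [hp, hq]
  | mul_X p j hp => simp [param] at hp; simp [hp, param, eval₂_sum]

theorem exists_ne_zero_of_linear_field (L : Type u) [Field L] [Algebra k L] {r : ℕ}
    (hr : Algebra.trdeg k L ≤ (r : Cardinal)) (hrt : r < t) (v : Fin m → L)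
    (M : Matrix (Fin t) (Fin m) L) (S : Matrix (Fin m) (Fin t) L) (hMS : M * S = 1)
    (N : Matrix (Fin m) (Fin m) L) (hN : ∀ l, Matrix.mulVec M (N l) = 0) :
    ∃ g : MvPolynomial (Fin m) k, g ≠ 0 ∧ param (k := k) L v N g = 0 := by
  let W := LinearMap.ker M.mulVecLin
  have hsurj : Function.Surjective M.mulVecLin := fun y => ⟨Matrix.mulVec S y, by
    simp [Matrix.mulVec_mulVec, hMS]⟩
  have hd : t + Module.finrank L W = m := by
    have := M.mulVecLin.finrank_range_add_finrank_ker
    rwa [LinearMap.range_eq_top.2 hsurj, finrank_top, Module.finrank_fin_fun,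
      Module.finrank_fin_fun] at this
  let b := Module.finBasis L W
  let s := Module.finrank L W
  let w : Matrix (Fin s) (Fin m) L := fun a => (b a : Fin m → L)
  let ρ := param (k := k) L v w
  have hni : ¬ Function.Injective ρ := fun hinj => by
    have h₁ := trdeg_le_of_injective ρ hinj
    rw [MvPolynomial.trdeg_of_isDomain, ← trdeg_add_eq k L (A := MvPolynomial (Fin s) L),
      MvPolynomial.trdeg_of_isDomain] at h₁
    simp only [Cardinal.mk_fin, Cardinal.lift_natCast] at h₁
    have h₂ := h₁.trans (add_le_add hr le_rfl)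
    have : m ≤ r + s := by exact_mod_cast h₂
    omega
  obtain ⟨g, hg, hg0⟩ : ∃ g, ρ g = 0 ∧ g ≠ 0 := by
    by_contra h
    push Not at h
    exact hni ((injective_iff_map_eq_zero _).2 h)
  refine ⟨g, hg0, ?_⟩
  let coef : Fin m → Fin s → L := fun l => b.repr ⟨N l, hN l⟩
  let sub : MvPolynomial (Fin s) L →ₐ[L] MvPolynomial (Fin m) L :=
    aeval fun a => ∑ l, MvPolynomial.C (coef l a) * MvPolynomial.X l
  have he : ∀ l j, ∑ a, coef l a * w a j = N l j := fun l j => by
    have h := congrArg Subtype.val (b.sum_repr ⟨N l, hN l⟩)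
    rw [Submodule.coe_sum] at h
    have h' := congrFun h j
    rw [Finset.sum_apply] at h'
    exact h' 
  have hcomp : (sub.restrictScalars k).comp ρ = param (k := k) L v N := by
    refine MvPolynomial.algHom_ext fun j => ?_
    simp only [AlgHom.comp_apply, ρ, param, aeval_X, map_add, map_sum, map_mul,
      AlgHom.restrictScalars_apply, sub, aeval_C, MvPolynomial.algebraMap_eq, Finset.mul_sum]
    congr 1
    rw [Finset.sum_comm]
    refine Finset.sum_congr rfl fun l _ => ?_
    rw [← he l j, map_sum, Finset.sum_mul]
    refine Finset.sum_congr rfl fun a _ => ?_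
    rw [map_mul]
    ring
  rw [← hcomp, AlgHom.comp_apply, hg, map_zero]

/-- Over an algebra of dimension `≤ r`, affine linear conditions of rank `t > r` on the parameters
hold only on a proper closed subset of parameters. -/
theorem exists_poly_of_linear [Algebra.FiniteType k C] {r : ℕ} (hdim : ringKrullDim C ≤ (r : ℕ))
    (hrt : r < t) (M : Matrix (Fin t) (Fin m) C) (S : Matrix (Fin m) (Fin t) C) (hMS : M * S = 1)
    (v : Fin t → C) :
    ∃ g : MvPolynomial (Fin m) k, g ≠ 0 ∧ ∀ (c : Fin m → k) (q : Ideal C), q.IsPrime →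
      (∀ i, (∑ j, M i j * algebraMap k C (c j)) + v i ∈ q) → MvPolynomial.eval c g = 0 := by
  classical
  have : IsNoetherianRing C := Algebra.FiniteType.isNoetherianRing k C
  let v' : Fin m → C := fun j => -(Matrix.mulVec S v j)
  let N : Matrix (Fin m) (Fin m) C := ((1 : Matrix (Fin m) (Fin m) C) - S * M).transpose
  have key : ∀ P : minimalPrimes C, ∃ g : MvPolynomial (Fin m) k, g ≠ 0 ∧
      param (k := k) (C ⧸ P.1) (fun j => Ideal.Quotient.mk P.1 (v' j))
        (N.map (Ideal.Quotient.mk P.1)) g = 0 := by
    rintro ⟨P, hP⟩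
    have : P.IsPrime := hP.1.1
    let D := C ⧸ P
    let L := FractionRing D
    have htr : Algebra.trdeg k L ≤ (r : Cardinal) := by
      have : Algebra.IsAlgebraic D L := IsLocalization.isAlgebraic L (nonZeroDivisors D)
      rw [← trdeg_add_eq k D (A := L), trdeg_eq_zero (R := D) (A := L), add_zero]
      have h₁ := (ringKrullDim_le_of_surjective (Ideal.Quotient.mk P)
        Ideal.Quotient.mk_surjective).trans hdim
      rw [DimLib.ringKrullDim_eq_trdeg (k := k)] at h₁
      obtain ⟨s, g, -, -, -, hs⟩ := DimLib.exists_normalization (k := k) (A := D)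
      rw [hs] at h₁ ⊢
      simp only [Cardinal.toNat_natCast] at h₁
      exact_mod_cast (by exact_mod_cast h₁ : s ≤ r)
    let φ : C →+* L := (algebraMap D L).comp (Ideal.Quotient.mk P)
    obtain ⟨g, hg0, hg⟩ := exists_ne_zero_of_linear_field (k := k) L htr hrt (fun j => φ (v' j))
      (M.map φ) (S.map φ) (by rw [← Matrix.map_mul, hMS, Matrix.map_one _ (map_zero φ) (map_one φ)])
      (N.map φ) (fun l => by
        funext i
        have h0 : (M * N.transpose) i l = 0 := by
          simp [N, Matrix.mul_sub, ← Matrix.mul_assoc, hMS]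
        have := congrArg φ h0
        simpa [Matrix.mul_apply, Matrix.mulVec, dotProduct, map_sum] using this)
    refine ⟨g, hg0, MvPolynomial.map_injective (algebraMap D L) (IsFractionRing.injective D L) ?_⟩
    rw [map_zero, ← hg]
    have : (MvPolynomial.mapAlgHom (IsScalarTower.toAlgHom k D L)).comp
        (param (k := k) D (fun j => Ideal.Quotient.mk P (v' j)) (N.map (Ideal.Quotient.mk P))) =
          param (k := k) L (fun j => φ (v' j)) (N.map φ) :=
      MvPolynomial.algHom_ext fun j => by simp [param, φ]
    exact DFunLike.congr_fun this g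
  choose g hg0 hg using key
  have := (minimalPrimes.finite_of_isNoetherianRing C).fintype
  refine ⟨∏ P, g P, Finset.prod_ne_zero_iff.2 fun P _ => hg0 P, fun c q hq hc => ?_⟩
  have := hq
  obtain ⟨P, hP, hPq⟩ := Ideal.exists_minimalPrimes_le (bot_le (a := q))
  rw [map_prod]
  refine Finset.prod_eq_zero (Finset.mem_univ (⟨P, hP⟩ : minimalPrimes C)) ?_
  let φ : (C ⧸ P) →ₐ[k] (C ⧸ q) := Ideal.Quotient.factorₐ k hPq
  have h := eval_param (k := k) (fun j => Ideal.Quotient.mk P (v' j)) (N.map (Ideal.Quotient.mk P))
    φ (fun l => algebraMap k (C ⧸ q) (c l)) (g ⟨P, hP⟩)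
  rw [hg ⟨P, hP⟩, MvPolynomial.eval₂_zero] at h
  have hsol : (fun j => φ (Ideal.Quotient.mk P (v' j)) +
      ∑ l, φ ((N.map (Ideal.Quotient.mk P)) l j) * algebraMap k (C ⧸ q) (c l)) =
        fun j => algebraMap k (C ⧸ q) (c j) := by
    funext j
    have hmem : (v' j + ∑ l, N l j * algebraMap k C (c l)) - algebraMap k C (c j) ∈ q := by
      have e : (v' j + ∑ l, N l j * algebraMap k C (c l)) - algebraMap k C (c j) =
          -(∑ i, S j i * ((∑ l, M i l * algebraMap k C (c l)) + v i)) := by
        have e₁ : ∑ l, N l j * algebraMap k C (c l) = algebraMap k C (c j) -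
            ∑ i, S j i * ∑ l, M i l * algebraMap k C (c l) := by
          have : ∀ l, N l j * algebraMap k C (c l) =
              (1 : Matrix (Fin m) (Fin m) C) j l * algebraMap k C (c l) -
                ∑ i, S j i * (M i l * algebraMap k C (c l)) := fun l => by
            simp only [N, Matrix.transpose_apply, Matrix.sub_apply, Matrix.mul_apply, sub_mul, Finset.sum_mul, mul_assoc]
          rw [Finset.sum_congr rfl fun l _ => this l, Finset.sum_sub_distrib]
          congr 1
          · simp [Matrix.one_apply]
          · rw [Finset.sum_comm]; simp only [Finset.mul_sum]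
        simp only [e₁, v', Matrix.mulVec, dotProduct, mul_add, Finset.sum_add_distrib]
        ring
      rw [e]
      exact q.neg_mem (Ideal.sum_mem _ fun i _ => q.mul_mem_left _ (hc i))
    rw [← Ideal.Quotient.eq] at hmem
    simpa [φ, map_sum] using hmem
  rw [hsol] at h
  have h' : algebraMap k (C ⧸ q) (MvPolynomial.eval c (g ⟨P, hP⟩)) = 0 := by
    rw [h]
    exact (MvPolynomial.aeval_algebraMap_apply (B := C ⧸ q) c _).symm
  exact (RingHom.injective (algebraMap k (C ⧸ q))) (h'.trans (map_zero _).symm)

end Groth.Agent.BertiniLib
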