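import Groth.Agent.BertiniLib.Core
import Mathlib.RingTheory.Smooth.StandardSmoothOfFree
import Mathlib.RingTheory.Smooth.StandardSmoothCotangent
import Mathlib.RingTheory.Etale.Kaehler
import Mathlib.RingTheory.Smooth.Kaehler
import Mathlib.RingTheory.Localization.Ideal

/-!
# Bertini: generic members of a family separating tangent vectors are smooth
-/

set_option autoImplicit false
set_option backward.isDefEq.respectTransparency.types false

universe u

open KaehlerDifferential TensorProduct Module

namespace Groth.Agent.BertiniLib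

variable {k : Type u} [Field k] {C : Type u} [CommRing C] [Algebra k C] {m r : ℕ}

/-- Parameters `c` for which the section `f + ∑ c_j s_j` is singular at some point lie on a
hypersurface, if the `s_j` generate first jets. -/
theorem exists_poly_singular [Algebra.IsStandardSmoothOfRelativeDimension r k C]
    (b : Basis (Fin r) C Ω[C⁄k]) (s : Fin m → C) (f : C)
    (hjet : Submodule.span C (Set.range fun j => (s j, D k C (s j))) = ⊤) :
    ∃ g : MvPolynomial (Fin m) k, g ≠ 0 ∧ ∀ (c : Fin m → k) (q : Ideal C), q.IsPrime →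
      (f + ∑ j, algebraMap k C (c j) * s j) ∈ q →
      (∀ i, b.repr (D k C (f + ∑ j, algebraMap k C (c j) * s j)) i ∈ q) →
        MvPolynomial.eval c g = 0 := by
  classical
  have : Algebra.IsStandardSmooth k C :=
    Algebra.IsStandardSmoothOfRelativeDimension.isStandardSmooth r
  let e : (C × Ω[C⁄k]) →ₗ[C] (Fin (r + 1) → C) :=
    LinearMap.pi (Fin.cases (LinearMap.fst C C Ω[C⁄k])
      fun i => (b.coord i).comp (LinearMap.snd C C Ω[C⁄k]))
  have he : Function.Surjective e := fun w => ⟨(w 0, b.equivFun.symm fun i => w i.succ), by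
    funext a
    refine Fin.cases ?_ (fun i => ?_) a
    · simp [e]
    · simpa [e] using congrFun (b.equivFun.apply_symm_apply fun i => w i.succ) i⟩
  have hcol : ∀ w : Fin (r + 1) → C, ∃ x : Fin m → C, ∑ j, x j • e (s j, D k C (s j)) = w := by
    intro w
    obtain ⟨z, rfl⟩ := he w
    obtain ⟨x, hx⟩ := (Submodule.mem_span_range_iff_exists_fun C).1 (hjet ▸ Submodule.mem_top : z ∈ _)
    exact ⟨x, (by rw [← hx, map_sum]; simp only [map_smul] : _ = e z)⟩
  choose S' hS using fun a => hcol (Pi.single a 1)
  obtain ⟨g, hg, hgc⟩ := exists_poly_of_linear (k := k) (C := C)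
    (ringKrullDim_le_of_isStandardSmooth (k := k) (C := C) r) (Nat.lt_succ_self r)
    (Matrix.of fun a j => e (s j, D k C (s j)) a) (Matrix.of fun j a => S' a j)
    (by
      ext a a'
      have := congrFun (hS a') a
      simp only [Finset.sum_apply, Pi.smul_apply, smul_eq_mul] at this
      simp only [Matrix.mul_apply, Matrix.of_apply, Matrix.one_apply, ← Pi.single_apply]
      rw [← this]
      exact Finset.sum_congr rfl fun j _ => mul_comm _ _)
    (e (f, D k C f))
  refine ⟨g, hg, fun c q hq h0 hd => hgc c q hq fun a => ?_⟩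
  have hsum : ∑ j, e (s j, D k C (s j)) a * algebraMap k C (c j) + e (f, D k C f) a =
      e (f + ∑ j, algebraMap k C (c j) * s j, D k C (f + ∑ j, algebraMap k C (c j) * s j)) a := by
    have : (f + ∑ j, algebraMap k C (c j) * s j, D k C (f + ∑ j, algebraMap k C (c j) * s j)) =
        (f, D k C f) + ∑ j, algebraMap k C (c j) • (s j, D k C (s j)) := by
      ext
      · simp [Prod.fst_sum, Algebra.smul_def]
      · simp [Prod.snd_sum, ← Algebra.smul_def]
    rw [this, map_add, map_sum, Pi.add_apply, Finset.sum_apply, add_comm]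
    congr 1
    exact Finset.sum_congr rfl fun j _ => by rw [map_smul, Pi.smul_apply, smul_eq_mul, mul_comm]
  simp only [Matrix.of_apply]
  rw [hsum]
  refine Fin.cases ?_ (fun i => ?_) a
  · simpa [e] using h0
  · simpa [e] using hd i

/-- The quotient by an equation with a unit partial derivative. -/
theorem quotient_unit [Algebra.Smooth k C] (b : Basis (Fin r) C Ω[C⁄k]) (l : C) (i : Fin r)
    (hu : IsUnit (b.repr (D k C l) i)) (I : Ideal C) (hI : I = Ideal.span {l}) :
    Algebra.Smooth k (C ⧸ I) ∧
      Nonempty (Basis {j : Fin r // j ≠ i} (C ⧸ I) Ω[(C ⧸ I)⁄k]) := by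
  classical
  subst hI
  set I := Ideal.span {l}
  let Q := C ⧸ I
  have hsur : Function.Surjective (algebraMap C Q) := Ideal.Quotient.mk_surjective
  have hker : RingHom.ker (algebraMap C Q) = I := Ideal.mk_ker
  have hlk : l ∈ RingHom.ker (algebraMap C Q) := hker.symm ▸ Ideal.mem_span_singleton_self l
  let x0 := (RingHom.ker (algebraMap C Q)).toCotangent ⟨l, hlk⟩
  have hQl : algebraMap C Q l = 0 := hlk
  let tos : Q →ₗ[C] (RingHom.ker (algebraMap C Q)).Cotangent :=
    Submodule.liftQ I (LinearMap.toSpanSingleton C _ x0) (by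
      rw [Submodule.span_singleton_le_iff_mem, LinearMap.mem_ker, LinearMap.toSpanSingleton_apply,
        ← map_smul, Ideal.toCotangent_eq_zero, sq]
      exact Ideal.mul_mem_mul hlk hlk)
  let v : Ω[C⁄k] →ₗ[C] C := ((hu.unit⁻¹ : Cˣ) : C) • b.coord i
  have hv : v (D k C l) = 1 := by simp [v]
  let lam : Q ⊗[C] Ω[C⁄k] →ₗ[C] Q := (TensorProduct.rid C Q).toLinearMap ∘ₗ v.lTensor Q
  have hsm : Algebra.FormallySmooth k Q := by
    rw [Algebra.FormallySmooth.iff_split_injection hsur]
    refine ⟨tos ∘ₗ lam, LinearMap.ext fun z => ?_⟩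
    obtain ⟨⟨y, hy⟩, rfl⟩ := Ideal.toCotangent_surjective _ z
    obtain ⟨a, rfl⟩ := Ideal.mem_span_singleton'.1 (hker ▸ hy)
    simp only [LinearMap.comp_apply, kerCotangentToTensor_toCotangent, LinearMap.id_apply]
    have h1 : lam ((1 : Q) ⊗ₜ[C] D k C (a * l)) = algebraMap C Q a := by
      simp only [lam, LinearMap.comp_apply, LinearMap.lTensor_tmul, LinearEquiv.coe_coe,
        TensorProduct.rid_tmul, Derivation.leibniz, map_add, map_smul, smul_eq_mul, hv]
      simp [Algebra.smul_def, hQl]
    rw [h1]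
    show (LinearMap.toSpanSingleton C _ x0) a = _
    rw [LinearMap.toSpanSingleton_apply, ← map_smul]
    rfl
  refine ⟨⟨hsm, ?_⟩, ?_⟩
  · exact Algebra.FinitePresentation.quotient (Submodule.fg_span_singleton l)
  let B := b.baseChange Q
  let π := KaehlerDifferential.mapBaseChange k C Q
  let w : {j : Fin r // j ≠ i} → Ω[Q⁄k] := fun j => π (B j)
  have hB : ∀ a, B.repr ((1 : Q) ⊗ₜ[C] D k C l) a = algebraMap C Q (b.repr (D k C l) a) := by
    intro a
    simp [B, Algebra.smul_def]
  have hπl : π ((1 : Q) ⊗ₜ[C] D k C l) = 0 := by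
    simp [π, mapBaseChange_tmul, hQl]
  refine ⟨Basis.mk (v := w) ?_ ?_⟩
  · rw [Fintype.linearIndependent_iff]
    intro a ha
    let z : Q ⊗[C] Ω[C⁄k] := ∑ j, a j • B j
    have hz : π z = 0 := by simpa [z, w] using ha
    obtain ⟨y, hy⟩ := (exact_kerCotangentToTensor_mapBaseChange k C Q hsur z).1 hz
    obtain ⟨⟨y, hy'⟩, rfl⟩ := Ideal.toCotangent_surjective _ y
    obtain ⟨c, rfl⟩ := Ideal.mem_span_singleton'.1 (hker ▸ hy')
    rw [kerCotangentToTensor_toCotangent] at hy
    have hy₂ : z = algebraMap C Q c • ((1 : Q) ⊗ₜ[C] D k C l) := by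
      rw [← hy, Derivation.leibniz, tmul_add, tmul_smul, tmul_smul, ← algebraMap_smul Q l
        ((1 : Q) ⊗ₜ[C] D k C c), hQl, zero_smul, add_zero, algebraMap_smul]
    have hrep : ∀ j', B.repr z j' = algebraMap C Q c * algebraMap C Q (b.repr (D k C l) j') :=
      fun j' => by rw [hy₂, map_smul, Finsupp.smul_apply, hB, smul_eq_mul]
    have hi : B.repr z i = 0 := by
      simp only [z, map_sum, map_smul, Basis.repr_self, Finsupp.coe_finsetSum, Finset.sum_apply,
        Finsupp.smul_apply]
      exact Finset.sum_eq_zero fun j _ => by rw [Finsupp.single_eq_of_ne j.2.symm, smul_zero]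
    have hc : algebraMap C Q c = 0 := by
      rw [hrep] at hi
      exact (hu.map _).mul_left_eq_zero.1 hi
    intro j
    have := hrep j.1
    simp only [z, map_sum, map_smul, Basis.repr_self, Finsupp.coe_finsetSum, Finset.sum_apply,
      Finsupp.smul_apply, hc, zero_mul] at this
    rw [Finset.sum_eq_single j (fun j' _ hj' => by
        rw [Finsupp.single_eq_of_ne (fun h => hj' (Subtype.ext h).symm), smul_zero]) (by simp)] at this
    simpa using this
  · intro x _
    obtain ⟨z, rfl⟩ := mapBaseChange_surjective k C Q hsur x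
    have hBi : π (B i) ∈ Submodule.span Q (Set.range w) := by
      have h := congrArg π (B.sum_repr ((1 : Q) ⊗ₜ[C] D k C l))
      rw [map_sum, hπl, Finset.sum_eq_add_sum_sdiff_singleton_of_mem (Finset.mem_univ i), map_smul, hB] at h
      have h' := add_eq_zero_iff_eq_neg.1 h
      rw [← (hu.map (algebraMap C Q)).unit_spec, ← Units.smul_def, ← eq_inv_smul_iff] at h'
      rw [h', Units.smul_def]
      refine Submodule.smul_mem _ _ (Submodule.neg_mem _ (Submodule.sum_mem _ fun j hj => ?_))
      rw [map_smul]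
      exact Submodule.smul_mem _ _ (Submodule.subset_span ⟨⟨j, by simpa using hj⟩, rfl⟩)
    rw [← B.sum_repr z, map_sum]
    refine Submodule.sum_mem _ fun j _ => ?_
    rw [map_smul]
    refine Submodule.smul_mem _ _ ?_
    by_cases hj : j = i
    · exact hj ▸ hBi
    · exact Submodule.subset_span ⟨⟨j, hj⟩, rfl⟩

/-- At a point of the zero locus where some partial derivative does not vanish, the zero locus is
standard smooth of one less relative dimension. -/
theorem exists_standardSmooth_quotient {A : Type u} [CommRing A] [Algebra k A] [Algebra A C]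
    [IsScalarTower k A C] (f0 : A) [IsLocalization.Away f0 C]
    [Algebra.IsStandardSmoothOfRelativeDimension r k C]
    (b : Basis (Fin r) C Ω[C⁄k]) (l : A) (q : Ideal (A ⧸ Ideal.span {l})) [q.IsPrime]
    (hf0 : f0 ∉ q.comap (Ideal.Quotient.mk _)) (i : Fin r)
    (hi : b.repr (D k C (algebraMap A C l)) i ∉
      (q.comap (Ideal.Quotient.mk _)).map (algebraMap A C)) :
    ∃ f : A ⧸ Ideal.span {l}, f ∉ q ∧
      Algebra.IsStandardSmoothOfRelativeDimension (r - 1) k (Localization.Away f) := by
  classical
  have : Algebra.IsStandardSmooth k C :=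
    Algebra.IsStandardSmoothOfRelativeDimension.isStandardSmooth r
  set q₀ := q.comap (Ideal.Quotient.mk (Ideal.span {l})) with hq₀
  obtain ⟨⟨c, _, n, rfl⟩, hc⟩ := IsLocalization.surj (Submonoid.powers f0)
    (b.repr (D k C (algebraMap A C l)) i)
  dsimp only at hc
  have hcq : c ∉ q₀ := fun h => hi (by
    have : IsUnit (algebraMap A C (f0 ^ n)) := by
      rw [map_pow]; exact IsLocalization.Away.algebraMap_pow_isUnit f0 n
    rw [← Ideal.mul_unit_mem_iff_mem _ this, hc]
    exact Ideal.mem_map_of_mem _ h)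
  let a := f0 * c
  have ha : a ∉ q₀ := fun h => (((Ideal.IsPrime.comap _ : q₀.IsPrime)).mem_or_mem h).elim hf0 hcq
  let C' := Localization.Away (algebraMap A C c)
  have : IsLocalization.Away a C' := IsLocalization.Away.mul' C C' f0 c
  have : Algebra.FormallyEtale C C' :=
    Algebra.FormallyEtale.of_isLocalization (Submonoid.powers (algebraMap A C c))
  let e := KaehlerDifferential.tensorKaehlerEquivOfFormallyEtale k C C'
  let b' := (b.baseChange C').map e
  have : Algebra.Smooth k C' := by
    have : Algebra.Smooth C C' := Algebra.Smooth.of_isLocalization_Away (algebraMap A C c)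
    exact Algebra.Smooth.comp k C C'
  have hu : IsUnit (b'.repr (D k C' (algebraMap A C' l)) i) := by
    have e1 : D k C' (algebraMap A C' l) = e ((1 : C') ⊗ₜ[C] D k C (algebraMap A C l)) := by
      show _ = mapBaseChange k C C' _
      rw [mapBaseChange_tmul, map_D, one_smul, ← IsScalarTower.algebraMap_apply]
    rw [e1]
    have e2 : b'.repr (e ((1 : C') ⊗ₜ[C] D k C (algebraMap A C l))) i =
        algebraMap C C' (b.repr (D k C (algebraMap A C l)) i) := by
      simp [b', Algebra.smul_def]
    rw [e2]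
    have h1 : IsUnit (algebraMap C C' (algebraMap A C c)) := IsLocalization.Away.algebraMap_isUnit _
    have hc' := congrArg (algebraMap C C') hc
    rw [map_mul] at hc'
    rw [← hc'] at h1
    exact (IsUnit.mul_iff.1 h1).1
  obtain ⟨hs, ⟨bQ⟩⟩ := quotient_unit (k := k) b' (algebraMap A C' l) i hu
    ((Ideal.span {l}).map (algebraMap A C')) (by rw [Ideal.map_span, Set.image_singleton])
  have hmap : (Ideal.span {l}).map (algebraMap A C') = Ideal.span {algebraMap A C' l} := by
    rw [Ideal.map_span, Set.image_singleton]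
  let Q' := C' ⧸ (Ideal.span {l}).map (algebraMap A C')
  have : Algebra.Smooth k Q' := hs
  have hloc : IsLocalization.Away (Ideal.Quotient.mk (Ideal.span {l}) a) Q' := by
    have h : IsLocalization (Algebra.algebraMapSubmonoid (A ⧸ Ideal.span {l}) (Submonoid.powers a)) Q' := inferInstance
    rwa [Algebra.algebraMapSubmonoid, Submonoid.map_powers] at h
  have hq' : (q.map (algebraMap _ Q')).IsPrime ∧
      (q.map (algebraMap _ Q')).comap (algebraMap _ Q') = q := by
    have hd : Disjoint (Submonoid.powers (Ideal.Quotient.mk (Ideal.span {l}) a) : Set _) (q : Set (A ⧸ Ideal.span {l})) := by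
      rw [Set.disjoint_left]
      rintro _ ⟨N, rfl⟩ h
      exact ha (Ideal.IsPrime.mem_of_pow_mem (Ideal.IsPrime.comap _ : q₀.IsPrime) N (show _ ∈ q₀ by rw [hq₀, Ideal.mem_comap, map_pow]; exact h))
    exact ⟨IsLocalization.isPrime_of_isPrime_disjoint _ Q' q ‹_› hd,
      IsLocalization.comap_map_of_isPrime_disjoint _ Q' ‹_› hd⟩
  obtain ⟨hprime, hcomap⟩ := hq'
  obtain ⟨g, hg, hgs⟩ :=
    Algebra.IsSmoothAt.exists_notMem_isStandardSmooth k (q.map (algebraMap _ Q'))
  obtain ⟨⟨g₀, _, N, rfl⟩, hg₀⟩ :=
    IsLocalization.surj (Submonoid.powers (Ideal.Quotient.mk (Ideal.span {l}) a)) g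
  dsimp only at hg₀
  have hunit : IsUnit (algebraMap (A ⧸ Ideal.span {l}) Q' (Ideal.Quotient.mk _ a ^ N)) := by
    rw [map_pow]; exact IsLocalization.Away.algebraMap_pow_isUnit _ N
  have hassoc : Associated g (algebraMap (A ⧸ Ideal.span {l}) Q' g₀) :=
    ⟨hunit.unit, by rw [IsUnit.unit_spec, hg₀]⟩
  have hg₀q : g₀ ∉ q := fun h => hg (by
    rw [← Ideal.mul_unit_mem_iff_mem _ hunit, hg₀]
    exact Ideal.mem_map_of_mem _ h)
  refine ⟨Ideal.Quotient.mk _ a * g₀, fun h => ?_, ?_⟩
  · rcases Ideal.IsPrime.mem_or_mem ‹_› h with h | h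
    · exact ha h
    · exact hg₀q h
  let R := Localization.Away g
  have : IsLocalization.Away (algebraMap (A ⧸ Ideal.span {l}) Q' g₀) R :=
    IsLocalization.Away.of_associated hassoc
  have : IsLocalization.Away (Ideal.Quotient.mk (Ideal.span {l}) a * g₀) R :=
    IsLocalization.Away.mul' Q' R _ g₀
  let eR : Localization.Away (Ideal.Quotient.mk (Ideal.span {l}) a * g₀) ≃ₐ[A ⧸ Ideal.span {l}] R :=
    IsLocalization.algEquiv (Submonoid.powers (Ideal.Quotient.mk (Ideal.span {l}) a * g₀)) _ _
  have hR : Algebra.IsStandardSmoothOfRelativeDimension (r - 1) k R := by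
    cases subsingleton_or_nontrivial R with
    | inl h =>
      exfalso
      have h0 : (algebraMap Q' R) 1 = algebraMap Q' R 0 := Subsingleton.elim _ _
      obtain ⟨⟨_, N', rfl⟩, hN'⟩ := (IsLocalization.eq_iff_exists (Submonoid.powers g) R).1 h0
      simp only [mul_one, mul_zero] at hN'
      exact hg (Ideal.IsPrime.mem_of_pow_mem hprime N' (hN' ▸ Ideal.zero_mem _))
    | inr h =>
      rw [Algebra.IsStandardSmoothOfRelativeDimension.iff_of_isStandardSmooth]
      have : Algebra.FormallyEtale Q' R :=
        Algebra.FormallyEtale.of_isLocalization (Submonoid.powers g)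
      rw [rank_eq_card_basis ((bQ.baseChange R).map
        (KaehlerDifferential.tensorKaehlerEquivOfFormallyEtale k Q' R))]
      simp
  exact Algebra.IsStandardSmoothOfRelativeDimension.of_algEquiv (r - 1) (AlgEquiv.ofRingEquiv (f := eR.toRingEquiv) (fun x => by
    rw [IsScalarTower.algebraMap_apply k (A ⧸ Ideal.span {l}) (Localization.Away _)]
    exact (eR.commutes _).trans (by rw [IsScalarTower.algebraMap_apply k Q' R, IsScalarTower.algebraMap_apply (A ⧸ Ideal.span {l}) Q' R]; congr 1; show _ = Ideal.Quotient.mk _ (algebraMap k C' x); rw [IsScalarTower.algebraMap_apply k A C']; rfl)) : _ ≃ₐ[k] R).symm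

end Groth.Agent.BertiniLib
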